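import Mathlib.Topology.Algebra.Order.LiminfLimsup
import Mathlib.Topology.Instances.ENNReal.Lemmas
import Mathlib.Analysis.SpecificLimits.Basic
import Mathlib.Order.LiminfLimsup
import Mathlib.Order.Filter.ENNReal
import Mathlib.Tactic

/-!
# Upper limits of `h n / n ^ d` along multiples
-/

set_option autoImplicit false

open Filter Topology
open scoped ENNReal

namespace K62.VolNum

theorem tendsto_ratio (T d : ℕ) :
    Tendsto (fun n : ℕ => (((n + T : ℕ) : ℝ≥0∞) / (n : ℝ≥0∞)) ^ d) atTop (𝓝 1) := by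
  have h1 : Tendsto (fun n : ℕ => ((n + T : ℕ) : ℝ) / (n : ℝ)) atTop (𝓝 1) := by
    have h2 : Tendsto (fun n : ℕ => (1 : ℝ) + (T : ℝ) / (n : ℝ)) atTop (𝓝 (1 + 0)) :=
      tendsto_const_nhds.add (tendsto_const_div_atTop_nhds_zero_nat (T : ℝ))
    rw [add_zero] at h2
    refine h2.congr' ?_
    filter_upwards [eventually_gt_atTop 0] with n hn
    have hn' : (n : ℝ) ≠ 0 := by positivity
    push_cast
    field_simp
  have h3 : Tendsto (fun n : ℕ => ((n + T : ℕ) : ℝ≥0∞) / (n : ℝ≥0∞)) atTop (𝓝 1) := by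
    have h4 := ENNReal.tendsto_ofReal h1
    rw [ENNReal.ofReal_one] at h4
    refine h4.congr' ?_
    filter_upwards [eventually_gt_atTop 0] with n hn
    have hn' : (0 : ℝ) < n := by exact_mod_cast hn
    rw [ENNReal.ofReal_div_of_pos hn', ENNReal.ofReal_natCast, ENNReal.ofReal_natCast]
  have h5 := ENNReal.Tendsto.pow (n := d) h3
  rwa [one_pow] at h5

theorem limsup_eq (h : ℕ → ℕ) (d a : ℕ) (ha : 0 < a) (T : ℕ)
    (hT : ∀ n, h n = 0 ∨ ∃ m, n ≤ a * m ∧ a * m ≤ n + T ∧ h n ≤ h (a * m)) :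
    limsup (fun m : ℕ => (h (a * m) : ℝ≥0∞) / (m : ℝ≥0∞) ^ d) atTop =
      (a : ℝ≥0∞) ^ d * limsup (fun m : ℕ => (h m : ℝ≥0∞) / (m : ℝ≥0∞) ^ d) atTop := by
  have ha0 : (a : ℝ≥0∞) ^ d ≠ 0 := pow_ne_zero _ (by exact_mod_cast ha.ne')
  have hat : (a : ℝ≥0∞) ^ d ≠ ⊤ := ENNReal.pow_ne_top (ENNReal.natCast_ne_top a)
  set g : ℕ → ℝ≥0∞ := fun n => (h n : ℝ≥0∞) / (n : ℝ≥0∞) ^ d with hg
  have e1 : (fun m : ℕ => (h (a * m) : ℝ≥0∞) / (m : ℝ≥0∞) ^ d) = fun m => (a : ℝ≥0∞) ^ d * g (a * m) := by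
    funext m
    simp only [hg]
    push_cast
    rw [mul_pow, ← mul_div_assoc, ENNReal.mul_div_mul_left _ _ ha0 hat]
  rw [e1, ENNReal.limsup_const_mul_of_ne_top hat]
  congr 1
  apply le_antisymm
  · have ht : Tendsto (fun m : ℕ => a * m) atTop atTop := tendsto_id.const_mul_atTop' ha
    exact limsup_le_limsup_of_le (f := map (fun m : ℕ => a * m) atTop) ht
  · refine le_of_forall_gt_imp_ge_of_dense fun c hc => ?_
    rcases eq_or_ne c ⊤ with rfl | hct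
    · exact le_top
    have hev := eventually_lt_of_limsup_lt hc
    obtain ⟨M, hM⟩ := eventually_atTop.1 hev
    have h2 : ∀ᶠ n : ℕ in atTop, g n ≤ c * (((n + T : ℕ) : ℝ≥0∞) / (n : ℝ≥0∞)) ^ d := by
      filter_upwards [eventually_ge_atTop (a * M + 1)] with n hn
      rcases hT n with h0 | ⟨m, hm1, hm2, hm3⟩
      · simp [hg, h0]
      have hmM : M ≤ m := by
        by_contra hcon
        push Not at hcon
        have : a * m ≤ a * M := Nat.mul_le_mul_left _ hcon.le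
        omega
      have h3 := (hM m hmM).le
      have hn0 : (n : ℝ≥0∞) ≠ 0 := by
        have : n ≠ 0 := by omega
        exact_mod_cast this
      have ham0 : ((a * m : ℕ) : ℝ≥0∞) ^ d ≠ 0 := by
        have : a * m ≠ 0 := by omega
        exact pow_ne_zero _ (by exact_mod_cast this)
      have hamt : ((a * m : ℕ) : ℝ≥0∞) ^ d ≠ ⊤ := ENNReal.pow_ne_top (ENNReal.natCast_ne_top _)
      have h4 : (h (a * m) : ℝ≥0∞) ≤ c * ((a * m : ℕ) : ℝ≥0∞) ^ d :=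
        (ENNReal.div_le_iff ham0 hamt).1 h3
      have hnd0 : (n : ℝ≥0∞) ^ d ≠ 0 := pow_ne_zero _ hn0
      have hndt : (n : ℝ≥0∞) ^ d ≠ ⊤ := ENNReal.pow_ne_top (ENNReal.natCast_ne_top _)
      calc g n = (h n : ℝ≥0∞) / (n : ℝ≥0∞) ^ d := rfl
        _ ≤ (h (a * m) : ℝ≥0∞) / (n : ℝ≥0∞) ^ d := by gcongr
        _ ≤ (c * ((a * m : ℕ) : ℝ≥0∞) ^ d) / (n : ℝ≥0∞) ^ d := by gcongr
        _ ≤ (c * ((n + T : ℕ) : ℝ≥0∞) ^ d) / (n : ℝ≥0∞) ^ d := by gcongr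
        _ = c * (((n + T : ℕ) : ℝ≥0∞) / (n : ℝ≥0∞)) ^ d := by
          rw [div_eq_mul_inv, div_eq_mul_inv, mul_pow, ENNReal.inv_pow, mul_assoc]
    have h5 : Tendsto (fun n : ℕ => c * (((n + T : ℕ) : ℝ≥0∞) / (n : ℝ≥0∞)) ^ d) atTop (𝓝 (c * 1)) :=
      ENNReal.Tendsto.const_mul (tendsto_ratio T d) (Or.inr hct)
    rw [mul_one] at h5
    exact (limsup_le_limsup h2).trans h5.limsup_eq.le

/-- Lower bounds on residue classes give a positive lower limit. -/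
theorem liminf_pos (h : ℕ → ℕ) (d m₁ a q₀ : ℕ) (hm : 0 < m₁) (ha : 0 < a)
    (H : ∀ r, r < m₁ → ∀ q, q₀ ≤ q → q ^ d ≤ a * h (m₁ * q + r)) :
    0 < liminf (fun m : ℕ => (h m : ℝ≥0∞) / (m : ℝ≥0∞) ^ d) atTop := by
  have hb0 : ((a * (2 * m₁) ^ d : ℕ) : ℝ≥0∞) ≠ 0 := by
    have : a * (2 * m₁) ^ d ≠ 0 := by positivity
    exact_mod_cast this
  have hbt : ((a * (2 * m₁) ^ d : ℕ) : ℝ≥0∞) ≠ ⊤ := ENNReal.natCast_ne_top _
  have hpos : (0 : ℝ≥0∞) < 1 / ((a * (2 * m₁) ^ d : ℕ) : ℝ≥0∞) :=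
    ENNReal.div_pos one_ne_zero hbt
  refine lt_of_lt_of_le hpos (le_liminf_of_le (by isBoundedDefault) ?_)
  filter_upwards [eventually_ge_atTop (m₁ * (q₀ + 1))] with m hmm
  have h1 := Nat.div_add_mod m m₁
  have h2 : m % m₁ < m₁ := Nat.mod_lt _ hm
  have h3 : q₀ + 1 ≤ m / m₁ := by
    rw [Nat.le_div_iff_mul_le hm]
    rw [mul_comm]; exact hmm
  have h4 := H (m % m₁) h2 (m / m₁) (by omega)
  rw [h1] at h4
  have h5 : m ≤ 2 * m₁ * (m / m₁) := by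
    have : m₁ ≤ m₁ * (m / m₁) := Nat.le_mul_of_pos_right _ (by omega)
    nlinarith
  have h6 : m ^ d ≤ a * (2 * m₁) ^ d * h m := by
    calc m ^ d ≤ (2 * m₁ * (m / m₁)) ^ d := Nat.pow_le_pow_left h5 d
      _ = (2 * m₁) ^ d * (m / m₁) ^ d := mul_pow _ _ _
      _ ≤ (2 * m₁) ^ d * (a * h m) := Nat.mul_le_mul_left _ h4
      _ = a * (2 * m₁) ^ d * h m := by ring
  have hm0 : m ≠ 0 := by
    have : 0 < m₁ * (q₀ + 1) := by positivity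
    omega
  have hmd0 : (m : ℝ≥0∞) ^ d ≠ 0 := pow_ne_zero _ (by exact_mod_cast hm0)
  have hmdt : (m : ℝ≥0∞) ^ d ≠ ⊤ := ENNReal.pow_ne_top (ENNReal.natCast_ne_top _)
  rw [ENNReal.div_le_iff hb0 hbt, ← ENNReal.mul_div_right_comm, ENNReal.le_div_iff_mul_le (Or.inl hmd0) (Or.inl hmdt),
    one_mul]
  have h7 : ((m ^ d : ℕ) : ℝ≥0∞) ≤ ((a * (2 * m₁) ^ d * h m : ℕ) : ℝ≥0∞) := by exact_mod_cast h6
  push_cast at h7 ⊢
  rw [mul_comm (h m : ℝ≥0∞)]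
  exact h7

/-- A positive upper limit gives arbitrarily large indices with `n ^ d ≤ a * h n`. -/
theorem exists_of_limsup_pos (h : ℕ → ℕ) (d : ℕ)
    (H : 0 < limsup (fun m : ℕ => (h m : ℝ≥0∞) / (m : ℝ≥0∞) ^ d) atTop) :
    ∃ a : ℕ, 0 < a ∧ ∀ N, ∃ n, N ≤ n ∧ 1 ≤ n ∧ n ^ d ≤ a * h n := by
  obtain ⟨c, hc0, hc⟩ := exists_between H
  have hct : c ≠ ⊤ := (lt_of_lt_of_le hc le_top).ne
  obtain ⟨a, ha⟩ := ENNReal.exists_nat_gt (ENNReal.inv_ne_top.2 hc0.ne')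
  have ha0 : 0 < a := by
    rcases Nat.eq_zero_or_pos a with h0 | h0
    · subst h0
      simp at ha
    · exact h0
  refine ⟨a, ha0, fun N => ?_⟩
  have hf := frequently_lt_of_lt_limsup (by isBoundedDefault) hc
  obtain ⟨n, hn, hn2⟩ := (hf.and_eventually (eventually_ge_atTop (N + 1))).exists
  refine ⟨n, by omega, by omega, ?_⟩
  have hn0 : n ≠ 0 := by omega
  have hnd0 : (n : ℝ≥0∞) ^ d ≠ 0 := pow_ne_zero _ (by exact_mod_cast hn0)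
  have hndt : (n : ℝ≥0∞) ^ d ≠ ⊤ := ENNReal.pow_ne_top (ENNReal.natCast_ne_top _)
  have h1 : c * (n : ℝ≥0∞) ^ d ≤ (h n : ℝ≥0∞) := (ENNReal.le_div_iff_mul_le (Or.inl hnd0) (Or.inl hndt)).1 hn.le
  have h2 : (1 : ℝ≥0∞) ≤ a * c := by
    have := (ENNReal.inv_lt_iff_inv_lt).1 ha
    have h3 : (a : ℝ≥0∞)⁻¹ ≤ c := this.le
    rw [ENNReal.inv_le_iff_le_mul (fun _ => by exact_mod_cast ha0.ne') (fun _ => hc0.ne')] at h3
    exact h3
  have h3 : ((n ^ d : ℕ) : ℝ≥0∞) ≤ ((a * h n : ℕ) : ℝ≥0∞) := by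
    push_cast
    calc (n : ℝ≥0∞) ^ d = 1 * (n : ℝ≥0∞) ^ d := (one_mul _).symm
      _ ≤ (a * c) * (n : ℝ≥0∞) ^ d := by gcongr
      _ = a * (c * (n : ℝ≥0∞) ^ d) := mul_assoc _ _ _
      _ ≤ a * (h n : ℝ≥0∞) := by gcongr
  exact_mod_cast h3

end K62.VolNum
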