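import Groth.Agent.Vanish.K910.Kodaira
import Groth.Agent.S2327
import Groth.Agent.Variety.K62.VolNum

/-!
# Volumes of invertible modules on a projective variety

* `le_add`, `pos_mul`: multiplication by sections.
* `homog_hyp`: the comparison of `h⁰(L^n)` with multiples of `a` needed for the homogeneity of the volume.
* `exists_mono`: Kodaira's lemma from infinitely many indices of maximal growth.
* `exists_lower`: lower bounds for `h⁰(L^m)` on all residue classes, for `L` with an ample submodule of a power.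
-/

set_option autoImplicit false
universe u
open CategoryTheory CategoryTheory.Limits AlgebraicGeometry TopologicalSpace

namespace K62.Vol

open Groth.Agent Groth.Agent.Fga Groth.Agent.Fga.PicMon Groth.Agent.Fga.RegSec K910.HZ K910.Growth K910.Kodaira

variable {k : Type u} [Field k] {X : Scheme.{u}} [X.Over (Spec (CommRingCat.of k))]
  [IsProper (X ↘ Spec (CommRingCat.of k))] [IsIntegral X]

variable (k) in
theorem le_add {L : X.Modules} (hL : PicF.IsInvertible L) {t : ℕ} (ht : 0 < HZ k X (mc L ^ t)) (n : ℕ) :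
    HZ k X (mc L ^ n) ≤ HZ k X (mc L ^ (n + t)) := by
  have := IntAdd.isNoetherian k X
  have hN := Fdesc.LocGen.isInvertible_tensorPow hL t
  have hF := Fdesc.LocGen.isInvertible_tensorPow hL n
  obtain ⟨s, hs⟩ := HodgeSec.exists_section (k := k) (L := CohB1.tensorPow L t) (by
    rw [← HZ_mc, mc_tensorPow]; exact ht)
  have hmono := HodgeSec.mono_mulS hN hF s hs
  have h1 := HZ_le_mulS k hN (HodgeSec.isCoh_of_isInvertible hF) s hmono Inv.one
  rwa [one_mul, one_mul, mc_tensorPow, mc_tensorPow, ← pow_add, add_comm t n] at h1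

variable (k) in
theorem pos_one {B : X.Modules} (s : Coh.structureModule X ⟶ B) (hs : s ≠ 0) : 0 < HZ k X 1 := by
  rw [← mc_one, HZ_mc]
  refine HodgeSec.finrank_pos_of_ne_zero k Fdesc.LocGen.isInvertible_structureModule (𝟙 _) fun h => hs ?_
  rw [← Category.id_comp s, h, zero_comp]

variable (k) in
theorem pos_mul {L : X.Modules} (hL : PicF.IsInvertible L) {t : ℕ} (ht : 0 < HZ k X (mc L ^ t)) (j : ℕ) :
    0 < HZ k X (mc L ^ (j * t)) := by
  induction j with
  | zero =>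
    obtain ⟨s, hs⟩ := HodgeSec.exists_section (k := k) (L := CohB1.tensorPow L t) (by
      rw [← HZ_mc, mc_tensorPow]; exact ht)
    rw [zero_mul, pow_zero]
    exact pos_one k s hs
  | succ j ih =>
    rw [Nat.succ_mul]
    exact lt_of_lt_of_le ih (le_add k hL ht _)

variable (k) in
theorem homog_hyp {L : X.Modules} (hL : PicF.IsInvertible L) (a : ℕ) (ha : 0 < a) :
    ∃ T : ℕ, ∀ n, HZ k X (mc L ^ n) = 0 ∨
      ∃ m, n ≤ a * m ∧ a * m ≤ n + T ∧ HZ k X (mc L ^ n) ≤ HZ k X (mc L ^ (a * m)) := by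
  classical
  let c : ℕ → ℕ := fun r => if h : ∃ n, n % a = r ∧ 0 < HZ k X (mc L ^ n) then h.choose else 0
  refine ⟨∑ r ∈ Finset.range a, (a - 1) * c r, fun n => ?_⟩
  rcases Nat.eq_zero_or_pos (HZ k X (mc L ^ n)) with h0 | h0
  · exact Or.inl h0
  refine Or.inr ?_
  have hex : ∃ n', n' % a = n % a ∧ 0 < HZ k X (mc L ^ n') := ⟨n, rfl, h0⟩
  have hc : c (n % a) = hex.choose := dif_pos hex
  obtain ⟨h1, h2⟩ := hex.choose_spec
  rw [← hc] at h1 h2
  set n₀ := c (n % a) with hn₀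
  have h3 : (a - 1) * n₀ ≤ ∑ r ∈ Finset.range a, (a - 1) * c r :=
    Finset.single_le_sum (f := fun r => (a - 1) * c r) (fun _ _ => Nat.zero_le _)
      (Finset.mem_range.2 (Nat.mod_lt _ ha))
  have h4 : a ∣ n + (a - 1) * n₀ := by
    have e : n + (a - 1) * n₀ + n₀ = n + a * n₀ := by
      obtain ⟨b, rfl⟩ : ∃ b, a = b + 1 := ⟨a - 1, by omega⟩
      simp only [Nat.add_sub_cancel]
      ring
    have h5 : (n + (a - 1) * n₀ + n₀) % a = n₀ % a := by
      rw [e, Nat.add_mul_mod_self_left, h1]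
    have h6 : (n + (a - 1) * n₀ + n₀) ≡ 0 + n₀ [MOD a] := by
      unfold Nat.ModEq
      rw [h5, zero_add]
    exact (Nat.modEq_zero_iff_dvd).1 (Nat.ModEq.add_right_cancel' n₀ h6)
  obtain ⟨m, hm⟩ := h4
  refine ⟨m, ?_, ?_, ?_⟩
  · rw [← hm]; exact Nat.le_add_right _ _
  · rw [← hm]; exact Nat.add_le_add_left h3 _
  · rw [← hm]; exact le_add k hL (pos_mul k hL h2 _) _

variable (k) in
/-- **Kodaira's lemma** from infinitely many indices of maximal growth. -/
theorem exists_pos_of_frequent (n : ℕ) (hn : topologicalKrullDim X = n) {H : X.Modules} (hH : CohB1.IsAmple H)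
    {L : X.Modules} (hL : PicF.IsInvertible L) {B B' : X.Modules} (hB : PicF.IsInvertible B)
    (hB' : PicF.IsInvertible B') (hBB' : mc B' * mc B = 1)
    (s : Coh.structureModule X ⟶ B) (hs : s ≠ 0) {a : ℕ} (ha : 0 < a)
    (hgrow : ∀ N : ℕ, ∃ m, N ≤ m ∧ 1 ≤ m ∧ m ^ n ≤ a * HZ k X (mc L ^ m)) :
    ∃ m, 1 ≤ m ∧ 0 < HZ k X (mc L ^ m * mc B') := by
  have := IntAdd.isNoetherian k X
  have hB'c := HodgeSec.isCoh_of_isInvertible hB'
  have hmono : Mono (mulS s B') := HodgeSec.mono_mulS hB hB' s hs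
  have hmid : Coh.IsCoh (CohB1.tensorMod B B') := isCoh_tensor hB hB'c
  set Q := cokernel (mulS s B') with hQ
  have hQc : Coh.IsCoh Q := Sga67.CohBasic.isCoh_cokernel _ hB'c.1 hmid
  have hBB : mc (CohB1.tensorMod B B') = 1 := by rw [mc_tensor, mul_comm, hBB']
  have hη : genericPoint X ∉ CohB1.support Q := HodgeSec.genericPoint_notMem_support hB hB'c s hs
  have hcl : IsClosed (CohB1.support Q) := S0020.result X _ hQc.2
  have hbound : ∃ μ₀ : ℕ, ∀ μ, μ₀ ≤ μ → a * HZ k X (mc L ^ μ * mc Q) < μ ^ n := by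
    have hne : CohB1.support Q ≠ Set.univ := by
      intro h
      rw [h] at hη
      exact hη (Set.mem_univ _)
    have hdimlt : topologicalKrullDim (CohB1.support Q) < (n : ℕ) := by
      refine DimLt.topologicalKrullDim_lt (A := Set.univ) (irreducibleSpace_def X |>.mp inferInstance) hcl
        (Set.subset_univ _) hne ?_
      have h1 : topologicalKrullDim (Set.univ : Set X) ≤ topologicalKrullDim X :=
        Topology.IsInducing.subtypeVal.topologicalKrullDim_le
      exact lt_of_le_of_lt (h1.trans hn.le) (by exact_mod_cast Nat.lt_succ_self n)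
    rcases Nat.eq_zero_or_pos n with h0 | h0
    · subst h0
      have hemp : CohB1.support Q = ∅ := by
        by_contra hne'
        obtain ⟨x, hx⟩ := Set.nonempty_iff_ne_empty.2 hne'
        have : Nonempty (IrreducibleCloseds (CohB1.support Q)) :=
          ⟨⟨closure {⟨x, hx⟩}, isIrreducible_singleton.closure, isClosed_closure⟩⟩
        have h1 : (0 : WithBot ℕ∞) ≤ topologicalKrullDim (CohB1.support Q) := Order.krullDim_nonneg
        exact absurd hdimlt (not_lt.2 (by simpa using h1))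
      refine ⟨0, fun μ _ => ?_⟩
      rw [HZ_eq_zero_of_support k hemp ((inv_mc hL).pow _), mul_zero, pow_zero]
      exact Nat.one_pos
    · obtain ⟨r, rfl⟩ : ∃ r, n = r + 1 := ⟨n - 1, by omega⟩
      obtain ⟨C, hC⟩ := upper k (r + 1) hn.le hH hL hQc r (IntNum0.withBot_le_of_lt_succ hdimlt)
      refine ⟨a * C * 2 ^ r + 1, fun μ hμ => ?_⟩
      have h1 := hC μ
      have h2 : μ + 1 ≤ 2 * μ := by
        have : 1 ≤ μ := le_trans (Nat.le_add_left _ _) hμ
        omega
      have h3 : 0 < μ ^ r := pow_pos (lt_of_lt_of_le (Nat.succ_pos _) hμ) r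
      calc a * HZ k X (mc L ^ μ * mc Q) ≤ a * (C * (μ + 1) ^ r) := Nat.mul_le_mul_left _ h1
        _ ≤ a * (C * (2 * μ) ^ r) := by gcongr
        _ = a * C * 2 ^ r * μ ^ r := by rw [mul_pow]; ring
        _ < μ * μ ^ r := Nat.mul_lt_mul_of_pos_right (by omega) h3
        _ = μ ^ (r + 1) := (pow_succ' μ r).symm
  obtain ⟨μ₀, hμ₀⟩ := hbound
  obtain ⟨μ, hμ, hμ1, h2⟩ := hgrow μ₀
  refine ⟨μ, hμ1, ?_⟩
  have h1 := (HZ_le_of_shortExact k _ (shortExact_mulS s hmono) hB'c hmid hQc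
    ((inv_mc hL).pow μ)).2
  rw [hBB, mul_one] at h1
  have h3 := hμ₀ μ hμ
  by_contra h4
  have h5 : HZ k X (mc L ^ μ * mc B') = 0 := by omega
  change _ ≤ HZ k X (mc L ^ μ * mc B') + HZ k X (mc L ^ μ * mc Q) at h1
  rw [h5, zero_add] at h1
  have h6 := Nat.mul_le_mul_left a h1
  omega

variable (k) in
/-- An ample submodule of a power of `L`. -/
theorem exists_mono (n : ℕ) (hn : topologicalKrullDim X = n) {H : X.Modules} (hH : CohB1.IsAmple H)
    {L : X.Modules} (hL : PicF.IsInvertible L) {a : ℕ} (ha : 0 < a)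
    (hgrow : ∀ N : ℕ, ∃ m, N ≤ m ∧ 1 ≤ m ∧ m ^ n ≤ a * HZ k X (mc L ^ m)) :
    ∃ (ν : ℕ) (A : X.Modules) (φ : A ⟶ CohB1.tensorPow L ν), 0 < ν ∧ CohB1.IsAmple A ∧ Mono φ := by
  have := HypSec.isNoetherian k X
  have := HypSec.isSeparated k X
  obtain ⟨j, B, hB, s, hs0⟩ : ∃ (j : ℕ) (B : X.Modules) (_ : B = CohB1.tensorPow H (j + 1))
      (s : Coh.structureModule X ⟶ B), s ≠ 0 := by
    obtain ⟨j, s, hs, -⟩ := S2324.result X H hH {genericPoint X} (Set.finite_singleton _) ⊤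
      (fun x _ => TopologicalSpace.Opens.mem_top x)
    refine ⟨j, _, rfl, s, ?_⟩
    rintro rfl
    have h1 : genericPoint X ∈ CohB1.genLocus (CohB1.tensorPow H (j + 1)) 0 := hs rfl
    rw [Ega2.FiniteSet.genLocus_zero] at h1
    exact h1
  have hBi : PicF.IsInvertible B := hB ▸ Fdesc.LocGen.isInvertible_tensorPow hH.1 _
  have hBa : CohB1.IsAmple B := hB ▸ (S2327.result X H hH.1 (j + 1) (Nat.succ_pos j)).1 hH
  obtain ⟨B', hB', hBB'⟩ := exists_inv hBi
  obtain ⟨μ, hμ, h1⟩ := exists_pos_of_frequent k n hn hH hL hBi hB' hBB' s hs0 ha hgrow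
  have hN : PicF.IsInvertible (CohB1.tensorMod (CohB1.tensorPow L μ) B') :=
    Fdesc.LocGen.isInvertible_tensorMod (Fdesc.LocGen.isInvertible_tensorPow hL _) hB'
  obtain ⟨t, ht⟩ := HodgeSec.exists_section (k := k)
    (L := CohB1.tensorMod (CohB1.tensorPow L μ) B') (by
      rw [← HZ_mc, mc_tensor, mc_tensorPow]
      exact h1)
  have hm := HodgeSec.mono_mulS hN hBi t ht
  obtain ⟨e⟩ := (mc_eq_iff (CohB1.tensorMod (CohB1.tensorMod (CohB1.tensorPow L μ) B') B)
    (CohB1.tensorPow L μ)).1 (by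
      rw [mc_tensor, mc_tensor, mul_assoc, hBB', mul_one])
  exact ⟨μ, B, mulS t B ≫ e.hom, by omega, hBa, mono_comp _ _⟩

variable (k) in
/-- Lower bounds on all residue classes. -/
theorem exists_lower (n : ℕ) (hn : topologicalKrullDim X = n) {L : X.Modules} (hL : PicF.IsInvertible L)
    {ν : ℕ} {A : X.Modules} (hA : CohB1.IsAmple A) (φ : A ⟶ CohB1.tensorPow L ν) (hφ : Mono φ) :
    ∃ a q₀ : ℕ, 0 < a ∧ ∀ r, r < ν → ∀ q, q₀ ≤ q → q ^ n ≤ a * HZ k X (mc L ^ (ν * q + r)) := by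
  classical
  have := IntAdd.isNoetherian k X
  obtain ⟨A', -, hAA'⟩ := exists_inv hA.1
  have key : ∀ r : ℕ, ∃ a q₀ : ℕ, 0 < a ∧ ∀ q, q₀ ≤ q → q ^ n ≤ a * HZ k X (mc L ^ (ν * q + r)) := by
    intro r
    have hr := Fdesc.LocGen.isInvertible_tensorPow hL r
    have hsupp : CohB1.support (CohB1.tensorPow L r) = Set.univ := by
      obtain ⟨N, hN, hNN⟩ := exists_inv hr
      have h1 := PosMain.support_tensor X hr hN (by rw [mul_comm]; exact hNN) (Coh.structureModule X)
      rw [Pic13.H956.Numbers.support_unit] at h1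
      rw [← h1]
      obtain ⟨e⟩ := (mc_eq_iff (CohB1.tensorMod (CohB1.tensorPow L r) (Coh.structureModule X))
        (CohB1.tensorPow L r)).1 (by rw [mc_tensor, mc_one, mul_one])
      exact (CohqB.DevSupport.support_congr e).symm
    obtain ⟨a, q₀, ha, hq⟩ := ample_lower k n hn.le hA hAA' (HodgeSec.isCoh_of_isInvertible hr) n (by
      rw [hsupp, ← hn]
      exact (Homeomorph.Set.univ X).isHomeomorph.topologicalKrullDim_eq)
    refine ⟨a, q₀, ha, fun q hqq => (hq q hqq).trans (Nat.mul_le_mul_left _ ?_)⟩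
    have h2 := HZ_pow_le k hA.1 (Fdesc.LocGen.isInvertible_tensorPow hL ν) φ q (inv_mc hr)
    rw [mul_comm (mc A ^ q)]
    refine h2.trans (le_of_eq ?_)
    rw [mc_tensorPow, mc_tensorPow, ← pow_mul, ← pow_add, add_comm]
  choose a q₀ ha hq using key
  refine ⟨∑ r ∈ Finset.range ν, a r + 1, ∑ r ∈ Finset.range ν, q₀ r, Nat.succ_pos _, fun r hr q hqq => ?_⟩
  have h1 : a r ≤ ∑ r ∈ Finset.range ν, a r :=
    Finset.single_le_sum (f := a) (fun _ _ => Nat.zero_le _) (Finset.mem_range.2 hr)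
  have h2 : q₀ r ≤ ∑ r ∈ Finset.range ν, q₀ r :=
    Finset.single_le_sum (f := q₀) (fun _ _ => Nat.zero_le _) (Finset.mem_range.2 hr)
  exact (hq r q (h2.trans hqq)).trans (Nat.mul_le_mul_right _ (h1.trans (Nat.le_succ _)))

end K62.Vol
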